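import Cfsg.Agent.H29.CosetCert.Fi22.Steps0
import Cfsg.Agent.H29.CosetCert.Fi22.Steps1
import Cfsg.Agent.H29.CosetCert.Fi22.Steps2
import Cfsg.Agent.H29.CosetCert.Fi22.Steps3
import Cfsg.Agent.H29.CosetCert.Fi22.Steps4
import Cfsg.Agent.H29.CosetCert.Sound

/-! Certificate data for Fi22, produced by a coset enumeration outside Lean and checked here. -/

set_option autoImplicit false
set_option maxRecDepth 16000

namespace H29.CosetCert.Fi22Data

open H29.CosetCert

theorem deds : ∀ k, nd ≤ k → k < N → ∃ s, chkDed F R S k s = true := by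
  intro k h1 h2
  unfold nd at h1
  unfold N at h2
  by_cases c0 : k < 4221
  · exact chkList_get F R S st0 3965 st0_ok.1 k (by omega) (by rw [st0_ok.2]; omega)
  by_cases c1 : k < 4477
  · exact chkList_get F R S st1 4221 st1_ok.1 k (by omega) (by rw [st1_ok.2]; omega)
  by_cases c2 : k < 4733
  · exact chkList_get F R S st2 4477 st2_ok.1 k (by omega) (by rw [st2_ok.2]; omega)
  by_cases c3 : k < 4989
  · exact chkList_get F R S st3 4733 st3_ok.1 k (by omega) (by rw [st3_ok.2]; omega)
  by_cases c4 : k < 5245
  · exact chkList_get F R S st4 4989 st4_ok.1 k (by omega) (by rw [st4_ok.2]; omega)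
  by_cases c5 : k < 5501
  · exact chkList_get F R S st5 5245 st5_ok.1 k (by omega) (by rw [st5_ok.2]; omega)
  by_cases c6 : k < 5757
  · exact chkList_get F R S st6 5501 st6_ok.1 k (by omega) (by rw [st6_ok.2]; omega)
  by_cases c7 : k < 6013
  · exact chkList_get F R S st7 5757 st7_ok.1 k (by omega) (by rw [st7_ok.2]; omega)
  by_cases c8 : k < 6269
  · exact chkList_get F R S st8 6013 st8_ok.1 k (by omega) (by rw [st8_ok.2]; omega)
  by_cases c9 : k < 6525
  · exact chkList_get F R S st9 6269 st9_ok.1 k (by omega) (by rw [st9_ok.2]; omega)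
  by_cases c10 : k < 6781
  · exact chkList_get F R S st10 6525 st10_ok.1 k (by omega) (by rw [st10_ok.2]; omega)
  by_cases c11 : k < 7037
  · exact chkList_get F R S st11 6781 st11_ok.1 k (by omega) (by rw [st11_ok.2]; omega)
  by_cases c12 : k < 7293
  · exact chkList_get F R S st12 7037 st12_ok.1 k (by omega) (by rw [st12_ok.2]; omega)
  by_cases c13 : k < 7549
  · exact chkList_get F R S st13 7293 st13_ok.1 k (by omega) (by rw [st13_ok.2]; omega)
  by_cases c14 : k < 7805
  · exact chkList_get F R S st14 7549 st14_ok.1 k (by omega) (by rw [st14_ok.2]; omega)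
  by_cases c15 : k < 8061
  · exact chkList_get F R S st15 7805 st15_ok.1 k (by omega) (by rw [st15_ok.2]; omega)
  by_cases c16 : k < 8317
  · exact chkList_get F R S st16 8061 st16_ok.1 k (by omega) (by rw [st16_ok.2]; omega)
  by_cases c17 : k < 8573
  · exact chkList_get F R S st17 8317 st17_ok.1 k (by omega) (by rw [st17_ok.2]; omega)
  by_cases c18 : k < 8829
  · exact chkList_get F R S st18 8573 st18_ok.1 k (by omega) (by rw [st18_ok.2]; omega)
  by_cases c19 : k < 9085
  · exact chkList_get F R S st19 8829 st19_ok.1 k (by omega) (by rw [st19_ok.2]; omega)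
  by_cases c20 : k < 9341
  · exact chkList_get F R S st20 9085 st20_ok.1 k (by omega) (by rw [st20_ok.2]; omega)
  by_cases c21 : k < 9597
  · exact chkList_get F R S st21 9341 st21_ok.1 k (by omega) (by rw [st21_ok.2]; omega)
  by_cases c22 : k < 9853
  · exact chkList_get F R S st22 9597 st22_ok.1 k (by omega) (by rw [st22_ok.2]; omega)
  by_cases c23 : k < 10109
  · exact chkList_get F R S st23 9853 st23_ok.1 k (by omega) (by rw [st23_ok.2]; omega)
  by_cases c24 : k < 10365
  · exact chkList_get F R S st24 10109 st24_ok.1 k (by omega) (by rw [st24_ok.2]; omega)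
  by_cases c25 : k < 10621
  · exact chkList_get F R S st25 10365 st25_ok.1 k (by omega) (by rw [st25_ok.2]; omega)
  by_cases c26 : k < 10877
  · exact chkList_get F R S st26 10621 st26_ok.1 k (by omega) (by rw [st26_ok.2]; omega)
  by_cases c27 : k < 11133
  · exact chkList_get F R S st27 10877 st27_ok.1 k (by omega) (by rw [st27_ok.2]; omega)
  by_cases c28 : k < 11389
  · exact chkList_get F R S st28 11133 st28_ok.1 k (by omega) (by rw [st28_ok.2]; omega)
  by_cases c29 : k < 11645
  · exact chkList_get F R S st29 11389 st29_ok.1 k (by omega) (by rw [st29_ok.2]; omega)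
  by_cases c30 : k < 11901
  · exact chkList_get F R S st30 11645 st30_ok.1 k (by omega) (by rw [st30_ok.2]; omega)
  by_cases c31 : k < 12157
  · exact chkList_get F R S st31 11901 st31_ok.1 k (by omega) (by rw [st31_ok.2]; omega)
  by_cases c32 : k < 12413
  · exact chkList_get F R S st32 12157 st32_ok.1 k (by omega) (by rw [st32_ok.2]; omega)
  by_cases c33 : k < 12669
  · exact chkList_get F R S st33 12413 st33_ok.1 k (by omega) (by rw [st33_ok.2]; omega)
  by_cases c34 : k < 12925
  · exact chkList_get F R S st34 12669 st34_ok.1 k (by omega) (by rw [st34_ok.2]; omega)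
  by_cases c35 : k < 13181
  · exact chkList_get F R S st35 12925 st35_ok.1 k (by omega) (by rw [st35_ok.2]; omega)
  by_cases c36 : k < 13437
  · exact chkList_get F R S st36 13181 st36_ok.1 k (by omega) (by rw [st36_ok.2]; omega)
  by_cases c37 : k < 13693
  · exact chkList_get F R S st37 13437 st37_ok.1 k (by omega) (by rw [st37_ok.2]; omega)
  by_cases c38 : k < 13949
  · exact chkList_get F R S st38 13693 st38_ok.1 k (by omega) (by rw [st38_ok.2]; omega)
  by_cases c39 : k < 14205
  · exact chkList_get F R S st39 13949 st39_ok.1 k (by omega) (by rw [st39_ok.2]; omega)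
  by_cases c40 : k < 14461
  · exact chkList_get F R S st40 14205 st40_ok.1 k (by omega) (by rw [st40_ok.2]; omega)
  by_cases c41 : k < 14717
  · exact chkList_get F R S st41 14461 st41_ok.1 k (by omega) (by rw [st41_ok.2]; omega)
  by_cases c42 : k < 14973
  · exact chkList_get F R S st42 14717 st42_ok.1 k (by omega) (by rw [st42_ok.2]; omega)
  by_cases c43 : k < 15229
  · exact chkList_get F R S st43 14973 st43_ok.1 k (by omega) (by rw [st43_ok.2]; omega)
  by_cases c44 : k < 15485
  · exact chkList_get F R S st44 15229 st44_ok.1 k (by omega) (by rw [st44_ok.2]; omega)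
  by_cases c45 : k < 15741
  · exact chkList_get F R S st45 15485 st45_ok.1 k (by omega) (by rw [st45_ok.2]; omega)
  by_cases c46 : k < 15997
  · exact chkList_get F R S st46 15741 st46_ok.1 k (by omega) (by rw [st46_ok.2]; omega)
  by_cases c47 : k < 16253
  · exact chkList_get F R S st47 15997 st47_ok.1 k (by omega) (by rw [st47_ok.2]; omega)
  by_cases c48 : k < 16509
  · exact chkList_get F R S st48 16253 st48_ok.1 k (by omega) (by rw [st48_ok.2]; omega)
  by_cases c49 : k < 16765
  · exact chkList_get F R S st49 16509 st49_ok.1 k (by omega) (by rw [st49_ok.2]; omega)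
  by_cases c50 : k < 17021
  · exact chkList_get F R S st50 16765 st50_ok.1 k (by omega) (by rw [st50_ok.2]; omega)
  by_cases c51 : k < 17277
  · exact chkList_get F R S st51 17021 st51_ok.1 k (by omega) (by rw [st51_ok.2]; omega)
  by_cases c52 : k < 17533
  · exact chkList_get F R S st52 17277 st52_ok.1 k (by omega) (by rw [st52_ok.2]; omega)
  by_cases c53 : k < 17789
  · exact chkList_get F R S st53 17533 st53_ok.1 k (by omega) (by rw [st53_ok.2]; omega)
  by_cases c54 : k < 18045
  · exact chkList_get F R S st54 17789 st54_ok.1 k (by omega) (by rw [st54_ok.2]; omega)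
  by_cases c55 : k < 18301
  · exact chkList_get F R S st55 18045 st55_ok.1 k (by omega) (by rw [st55_ok.2]; omega)
  by_cases c56 : k < 18557
  · exact chkList_get F R S st56 18301 st56_ok.1 k (by omega) (by rw [st56_ok.2]; omega)
  by_cases c57 : k < 18813
  · exact chkList_get F R S st57 18557 st57_ok.1 k (by omega) (by rw [st57_ok.2]; omega)
  by_cases c58 : k < 19069
  · exact chkList_get F R S st58 18813 st58_ok.1 k (by omega) (by rw [st58_ok.2]; omega)
  by_cases c59 : k < 19325
  · exact chkList_get F R S st59 19069 st59_ok.1 k (by omega) (by rw [st59_ok.2]; omega)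
  by_cases c60 : k < 19581
  · exact chkList_get F R S st60 19325 st60_ok.1 k (by omega) (by rw [st60_ok.2]; omega)
  by_cases c61 : k < 19837
  · exact chkList_get F R S st61 19581 st61_ok.1 k (by omega) (by rw [st61_ok.2]; omega)
  by_cases c62 : k < 20093
  · exact chkList_get F R S st62 19837 st62_ok.1 k (by omega) (by rw [st62_ok.2]; omega)
  by_cases c63 : k < 20349
  · exact chkList_get F R S st63 20093 st63_ok.1 k (by omega) (by rw [st63_ok.2]; omega)
  by_cases c64 : k < 20500
  · exact chkList_get F R S st64 20349 st64_ok.1 k (by omega) (by rw [st64_ok.2]; omega)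
  omega

end H29.CosetCert.Fi22Data
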