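import Cfsg.Agent.H29.CosetCert.Fi22.Table

/-! Certificate data for Fi22, produced by a coset enumeration outside Lean and checked here. -/

set_option autoImplicit false
set_option maxRecDepth 16000

namespace H29.CosetCert.Fi22Data

open H29.CosetCert

theorem rels0_ok : allIn (fun c => allIn (fun i => runR T (R.getD i []) c == c) 0 48) 0 300
    = true := by decide +kernel

theorem rels1_ok : allIn (fun c => allIn (fun i => runR T (R.getD i []) c == c) 0 48) 300 300
    = true := by decide +kernel

theorem rels2_ok : allIn (fun c => allIn (fun i => runR T (R.getD i []) c == c) 0 48) 600 300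
    = true := by decide +kernel

theorem rels3_ok : allIn (fun c => allIn (fun i => runR T (R.getD i []) c == c) 0 48) 900 300
    = true := by decide +kernel

theorem rels4_ok : allIn (fun c => allIn (fun i => runR T (R.getD i []) c == c) 0 48) 1200 300
    = true := by decide +kernel

theorem rels5_ok : allIn (fun c => allIn (fun i => runR T (R.getD i []) c == c) 0 48) 1500 300
    = true := by decide +kernel

theorem rels6_ok : allIn (fun c => allIn (fun i => runR T (R.getD i []) c == c) 0 48) 1800 300
    = true := by decide +kernel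

theorem rels7_ok : allIn (fun c => allIn (fun i => runR T (R.getD i []) c == c) 0 48) 2100 300
    = true := by decide +kernel

theorem rels8_ok : allIn (fun c => allIn (fun i => runR T (R.getD i []) c == c) 0 48) 2400 300
    = true := by decide +kernel

theorem rels9_ok : allIn (fun c => allIn (fun i => runR T (R.getD i []) c == c) 0 48) 2700 300
    = true := by decide +kernel

theorem rels10_ok : allIn (fun c => allIn (fun i => runR T (R.getD i []) c == c) 0 48) 3000 300
    = true := by decide +kernel

theorem rels11_ok : allIn (fun c => allIn (fun i => runR T (R.getD i []) c == c) 0 48) 3300 210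
    = true := by decide +kernel

theorem rels_ok (c i : ℕ) (hc : c < 3510) (hi : i < 48) : runR T (R.getD i []) c = c := by
  by_cases h0 : c < 300
  · exact beq_iff_eq.mp ((allIn_iff _ _ _).1 ((allIn_iff _ _ _).1 rels0_ok c (by omega) (by omega)) i (by omega) (by omega))
  by_cases h1 : c < 600
  · exact beq_iff_eq.mp ((allIn_iff _ _ _).1 ((allIn_iff _ _ _).1 rels1_ok c (by omega) (by omega)) i (by omega) (by omega))
  by_cases h2 : c < 900
  · exact beq_iff_eq.mp ((allIn_iff _ _ _).1 ((allIn_iff _ _ _).1 rels2_ok c (by omega) (by omega)) i (by omega) (by omega))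
  by_cases h3 : c < 1200
  · exact beq_iff_eq.mp ((allIn_iff _ _ _).1 ((allIn_iff _ _ _).1 rels3_ok c (by omega) (by omega)) i (by omega) (by omega))
  by_cases h4 : c < 1500
  · exact beq_iff_eq.mp ((allIn_iff _ _ _).1 ((allIn_iff _ _ _).1 rels4_ok c (by omega) (by omega)) i (by omega) (by omega))
  by_cases h5 : c < 1800
  · exact beq_iff_eq.mp ((allIn_iff _ _ _).1 ((allIn_iff _ _ _).1 rels5_ok c (by omega) (by omega)) i (by omega) (by omega))
  by_cases h6 : c < 2100
  · exact beq_iff_eq.mp ((allIn_iff _ _ _).1 ((allIn_iff _ _ _).1 rels6_ok c (by omega) (by omega)) i (by omega) (by omega))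
  by_cases h7 : c < 2400
  · exact beq_iff_eq.mp ((allIn_iff _ _ _).1 ((allIn_iff _ _ _).1 rels7_ok c (by omega) (by omega)) i (by omega) (by omega))
  by_cases h8 : c < 2700
  · exact beq_iff_eq.mp ((allIn_iff _ _ _).1 ((allIn_iff _ _ _).1 rels8_ok c (by omega) (by omega)) i (by omega) (by omega))
  by_cases h9 : c < 3000
  · exact beq_iff_eq.mp ((allIn_iff _ _ _).1 ((allIn_iff _ _ _).1 rels9_ok c (by omega) (by omega)) i (by omega) (by omega))
  by_cases h10 : c < 3300
  · exact beq_iff_eq.mp ((allIn_iff _ _ _).1 ((allIn_iff _ _ _).1 rels10_ok c (by omega) (by omega)) i (by omega) (by omega))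
  by_cases h11 : c < 3510
  · exact beq_iff_eq.mp ((allIn_iff _ _ _).1 ((allIn_iff _ _ _).1 rels11_ok c (by omega) (by omega)) i (by omega) (by omega))
  omega

end H29.CosetCert.Fi22Data
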